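import Groth.Agent.Lib.BaseChange.Field
import Groth.Agent.Lib.SchImage.Reduced
import Groth.Agent.Lib.RedSub.Basic
import Groth.Agent.Lib.Rigidity.SmoothGroup
import Groth.Agent.S2769

/-!
# Smooth stratification after a purely inseparable extension
-/

set_option autoImplicit false
set_option maxHeartbeats 600000
universe u

open CategoryTheory CategoryTheory.Limits AlgebraicGeometry TopologicalSpace

namespace GrothLib.PIStrat5

/-- The reduced subscheme on a locally closed set is smooth. -/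
def SmoothPiece {Y : Scheme.{u}} {F : CommRingCat.{u}} (p : Y ⟶ Spec F) (S : Set Y) : Prop :=
  ∃ (W : Scheme.{u}) (j : W ⟶ Y), IsImmersion j ∧ Set.range j = S ∧ Smooth (j ≫ p)

theorem coe_comp {A B C : Scheme.{u}} (f : A ⟶ B) (g : B ⟶ C) : ⇑(f ≫ g) = ⇑g ∘ ⇑f := rfl

theorem range_eq_of_isPullback {P A B C : Scheme.{u}} {fst : P ⟶ A} {snd : P ⟶ B} {f : A ⟶ C} {g : B ⟶ C}
    (h : IsPullback fst snd f g) : Set.range fst = f ⁻¹' Set.range g := by
  rw [← Scheme.Pullback.range_fst, ← h.isoPullback_hom_fst]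
  exact (h.isoPullback.hom.homeomorph.surjective).range_comp (pullback.fst f g)

theorem smoothPiece_baseChange {Y Y' : Scheme.{u}} {F F' : CommRingCat.{u}} {p : Y ⟶ Spec F}
    {p' : Y' ⟶ Spec F'} {π : Y' ⟶ Y} {s : Spec F' ⟶ Spec F} (h : IsPullback π p' p s) {S : Set Y}
    (hS : SmoothPiece p S) : SmoothPiece p' (π.base ⁻¹' S) := by
  obtain ⟨W, j, hj, hr, hsm⟩ := hS
  refine ⟨pullback π j, pullback.fst π j, MorphismProperty.pullback_fst _ _ hj,
    hr ▸ Scheme.Pullback.range_fst π j, ?_⟩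
  have h1 : IsPullback (pullback.snd π j) (pullback.fst π j ≫ p') (j ≫ p) s :=
    (IsPullback.of_hasPullback π j).flip.paste_vert h
  exact MorphismProperty.of_isPullback h1 hsm

theorem smooth_subscheme {Y : Scheme.{u}} {F : Type u} [Field F] (p : Y ⟶ Spec (CommRingCat.of F))
    {C D : Closeds Y} (h : SmoothPiece p ((C : Set Y) \ D)) :
    Smooth (((Scheme.IdealSheafData.vanishingIdeal C).subschemeι ⁻¹ᵁ
      (Scheme.IdealSheafData.vanishingIdeal D).support.compl).ι ≫
        (Scheme.IdealSheafData.vanishingIdeal C).subschemeι ≫ p) := by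
  obtain ⟨W, j, hj, hr, hsm⟩ := h
  set A := Scheme.IdealSheafData.vanishingIdeal C
  set V : Y.Opens := (Scheme.IdealSheafData.vanishingIdeal D).support.compl with hV
  have hVD : (V : Set Y) = (D : Set Y)ᶜ :=
    congrArg Compl.compl (Scheme.IdealSheafData.coe_support_vanishingIdeal D)
  have hA : Set.range A.subschemeι = (C : Set Y) := by
    rw [Scheme.IdealSheafData.range_subschemeι]
    exact Scheme.IdealSheafData.coe_support_vanishingIdeal C
  let j₂ := A.subschemeι ∣_ V
  haveI : IsClosedImmersion j₂ := MorphismProperty.of_isPullback (isPullback_morphismRestrict A.subschemeι V).flip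
    inferInstance
  haveI := hsm
  haveI : IsReduced W := Rigidity.isReduced_of_smooth (j ≫ p)
  haveI : IsReduced A.subscheme := RedSub.isReduced_subscheme_vanishingIdeal _
  haveI : IsReduced (A.subschemeι ⁻¹ᵁ V : Scheme.{u}) := isReduced_of_isOpenImmersion (A.subschemeι ⁻¹ᵁ V).ι
  have hjV : Set.range j ⊆ Set.range V.ι := by
    rw [hr, Scheme.Opens.range_ι, hVD]
    exact fun x hx => hx.2
  let j₁ : W ⟶ (V : Scheme.{u}) := IsOpenImmersion.lift V.ι j hjV
  have hj₁ : j₁ ≫ V.ι = j := IsOpenImmersion.lift_fac _ _ _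
  have hr₁ : Set.range j₁ = V.ι ⁻¹' (C : Set Y) := by
    apply Set.image_injective.2 V.ι.isOpenEmbedding.injective
    rw [← Set.range_comp, Set.image_preimage_eq_range_inter, Scheme.Opens.range_ι, hVD, ← coe_comp, hj₁, hr,
      Set.sdiff_eq, Set.inter_comm]
  haveI : IsImmersion (j₁ ≫ V.ι) := hj₁ ▸ hj
  haveI : IsImmersion j₁ := IsImmersion.of_comp j₁ V.ι
  haveI : IsClosedImmersion j₁ := IsClosedImmersion.of_isPreimmersion j₁
    (hr₁ ▸ C.isClosed.preimage V.ι.continuous)
  have hr₂ : Set.range j₂ = V.ι ⁻¹' (C : Set Y) := by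
    rw [range_eq_of_isPullback (isPullback_morphismRestrict A.subschemeι V), hA]
  have hker : j₁.ker = j₂.ker := by
    rw [SchImage.ker_eq_vanishingIdeal, SchImage.ker_eq_vanishingIdeal]
    congr 1
    exact Closeds.ext (congrArg closure (hr₁.trans hr₂.symm))
  haveI := IsClosedImmersion.isIso_lift j₁ j₂ hker
  have e : (A.subschemeι ⁻¹ᵁ V).ι ≫ A.subschemeι ≫ p = IsClosedImmersion.lift j₁ j₂ hker.le ≫ (j ≫ p) := by
    rw [← hj₁, Category.assoc, IsClosedImmersion.lift_fac_assoc]
    exact (morphismRestrict_ι_assoc A.subschemeι V p).symm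
  rw [e]
  infer_instance

/-- A chain of closed subsets with smooth successive differences. -/
inductive Strat {Y : Scheme.{u}} {F : CommRingCat.{u}} (p : Y ⟶ Spec F) : Closeds Y → Prop
  | bot : Strat p ⊥
  | step {C D : Closeds Y} : D ≤ C → SmoothPiece p ((C : Set Y) \ D) → Strat p D → Strat p C

theorem strat_baseChange {Y Y' : Scheme.{u}} {F F' : CommRingCat.{u}} {p : Y ⟶ Spec F}
    {p' : Y' ⟶ Spec F'} {π : Y' ⟶ Y} {s : Spec F' ⟶ Spec F} (h : IsPullback π p' p s) {C : Closeds Y}
    (hC : Strat p C) : Strat p' (C.preimage π.continuous) := by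
  induction hC with
  | bot =>
    convert Strat.bot (p := p') using 1
    exact Closeds.ext (by simp)
  | @step C D hle hp _ ih =>
    exact .step (fun x hx => hle hx) (by simpa using smoothPiece_baseChange h hp) ih

theorem exists_fin {Y : Scheme.{u}} {F : CommRingCat.{u}} {p : Y ⟶ Spec F} {C : Closeds Y} (hC : Strat p C) :
    ∃ (t : ℕ) (c : Fin (t + 1) → Closeds Y), Antitone c ∧ c 0 = C ∧ c (Fin.last t) = ⊥ ∧
      ∀ i : Fin t, SmoothPiece p ((c i.castSucc : Set Y) \ (c i.succ : Set Y)) := by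
  induction hC with
  | bot => exact ⟨0, fun _ => ⊥, antitone_const, rfl, rfl, fun i => i.elim0⟩
  | @step C D hle hp _ ih =>
    obtain ⟨t, c, hc, h0, hl, hs⟩ := ih
    refine ⟨t + 1, Fin.cons C c, ?_, Fin.cons_zero _ _, ?_, fun i => ?_⟩
    · rw [Fin.antitone_iff_succ_le]
      intro i
      refine Fin.cases ?_ (fun i => ?_) i
      · simpa [h0] using hle
      · simpa [← Fin.succ_castSucc] using hc (Fin.castSucc_le_succ i)
    · rw [← Fin.succ_last, Fin.cons_succ, hl]
    · refine Fin.cases ?_ (fun i => ?_) i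
      · simpa [h0] using hp
      · simpa [← Fin.succ_castSucc] using hs i

theorem smoothPiece_of_immersion {X V : Scheme.{u}} {F F' : CommRingCat.{u}} (f : X ⟶ Spec F)
    (σ : Spec F' ⟶ Spec F) (g : V ⟶ X) [IsImmersion g] (g' : V ⟶ Spec F) (hg : g ≫ f = g') {Z : Scheme.{u}}
    (i : Z ⟶ pullback g' σ) [IsImmersion i] (hi : Function.Surjective i.base)
    (hsm : Smooth (i ≫ pullback.snd g' σ)) :
    SmoothPiece (pullback.snd f σ) ((pullback.fst f σ).base ⁻¹' Set.range g) := by
  subst hg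
  let ψ : pullback (g ≫ f) σ ⟶ pullback f σ :=
    pullback.lift (pullback.fst _ _ ≫ g) (pullback.snd _ _) (by rw [Category.assoc]; exact pullback.condition)
  have hψ : IsPullback ψ (pullback.fst _ _) (pullback.fst f σ) g := by
    refine IsPullback.of_right ?_ (pullback.lift_fst _ _ _) (IsPullback.of_hasPullback f σ).flip
    rw [pullback.lift_snd]
    exact (IsPullback.of_hasPullback (g ≫ f) σ).flip
  haveI : IsImmersion ψ := MorphismProperty.of_isPullback hψ.flip inferInstance
  refine ⟨Z, i ≫ ψ, inferInstance, ?_, ?_⟩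
  · rw [coe_comp, hi.range_comp, range_eq_of_isPullback hψ]
  · rw [Category.assoc, pullback.lift_snd]
    exact hsm

variable (k : Type u) [Field k] (X : Scheme.{u}) [X.Over (Spec (CommRingCat.of k))]
  [LocallyOfFiniteType (X ↘ (Spec (CommRingCat.of k)))] [QuasiCompact (X ↘ (Spec (CommRingCat.of k)))]

theorem exists_strat (T : Closeds X) :
    ∃ (E : IntermediateField k (AlgebraicClosure k)) (_ : FiniteDimensional k E) (_ : IsPurelyInseparable k E),
      Strat (Curv2.bcSnd k X E) (T.preimage (Curv2.bcFst k X E).continuous) := by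
  haveI : IsLocallyNoetherian X := LocallyOfFiniteType.isLocallyNoetherian (X ↘ (Spec (CommRingCat.of k)))
  haveI : CompactSpace X := QuasiCompact.compactSpace_of_compactSpace (X ↘ (Spec (CommRingCat.of k)))
  haveI : IsNoetherian X := ⟨⟩
  haveI : WellFoundedLT (Closeds X) := inferInstance
  induction T using WellFoundedLT.induction with
  | _ T IH =>
  rcases eq_or_ne T ⊥ with rfl | hT
  · refine ⟨⊥, inferInstance, inferInstance, ?_⟩
    convert Strat.bot using 1
    exact Closeds.ext (by simp)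
  set A := Scheme.IdealSheafData.vanishingIdeal T with hAdef
  have hA : Set.range A.subschemeι = (T : Set X) := by
    rw [Scheme.IdealSheafData.range_subschemeι]
    exact Scheme.IdealSheafData.coe_support_vanishingIdeal T
  let fZ := A.subschemeι ≫ (X ↘ (Spec (CommRingCat.of k)))
  obtain ⟨U, hU, k₁, i1, i2, i3, i4, Z, i5, i, hi, his, hsm⟩ := Groth.Agent.S2769.result k fZ
  -- the complement
  let D : Closeds X := ⟨A.subschemeι '' (U : Set A.subscheme)ᶜ, A.subschemeι.isClosedEmbedding.isClosedMap _ U.2.isClosed_compl⟩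
  have hDT : D ≤ T := fun x ⟨z, _, hz⟩ => hA.subset ⟨z, hz⟩
  have hlt : D < T := by
    refine lt_of_le_of_ne hDT fun e => hT ?_
    have hU0 : (U : Set A.subscheme) = ∅ := Set.eq_empty_iff_forall_notMem.2 fun z hz => by
      obtain ⟨w, hw, hwz⟩ : A.subschemeι z ∈ (D : Set X) := e.symm ▸ hA.subset ⟨z, rfl⟩
      exact hw (A.subschemeι.isClosedEmbedding.injective hwz ▸ hz)
    refine Closeds.ext (Set.eq_empty_iff_forall_notMem.2 fun x hx => ?_)
    obtain ⟨z, rfl⟩ := hA.superset hx
    exact absurd (hU.closure_eq ▸ Set.mem_univ z : z ∈ closure (U : Set A.subscheme)) (by simp [hU0])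
  obtain ⟨E₂, _, _, hE₂⟩ := IH D hlt
  -- the compositum
  haveI : Algebra.IsAlgebraic k k₁ := Algebra.IsAlgebraic.of_finite k k₁
  let φ : k₁ →ₐ[k] AlgebraicClosure k := IsAlgClosed.lift
  haveI : FiniteDimensional k φ.fieldRange := φ.toLinearMap.finiteDimensional_range
  haveI : IsPurelyInseparable k φ.fieldRange :=
    AlgEquiv.isPurelyInseparable (AlgEquiv.ofInjectiveField φ)
  refine ⟨φ.fieldRange ⊔ E₂, IntermediateField.finiteDimensional_sup _ _, inferInstance, ?_⟩
  set E := φ.fieldRange ⊔ E₂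
  letI a₁ : Algebra k₁ E := (φ.toRingHom.codRestrict E.toSubfield fun a =>
    (le_sup_left : φ.fieldRange ≤ E) ⟨a, rfl⟩).toAlgebra
  haveI : IsScalarTower k k₁ E := IsScalarTower.of_algebraMap_eq fun c => Subtype.ext (φ.commutes c).symm
  letI a₂ : Algebra E₂ E := (IntermediateField.inclusion (le_sup_right : E₂ ≤ E)).toRingHom.toAlgebra
  haveI : IsScalarTower k E₂ E := IsScalarTower.of_algebraMap_eq fun c => rfl
  have hTD : (T : Set X) \ D = Set.range (U.ι ≫ A.subschemeι) := by
    rw [coe_comp, Set.range_comp, Scheme.Opens.range_ι]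
    ext x
    constructor
    · rintro ⟨hx, hxD⟩
      obtain ⟨z, rfl⟩ := hA.superset hx
      exact ⟨z, not_not.1 fun h => hxD ⟨z, h, rfl⟩, rfl⟩
    · rintro ⟨z, hz, rfl⟩
      exact ⟨hA.subset ⟨z, rfl⟩, fun ⟨w, hw, e⟩ => hw (A.subschemeι.isClosedEmbedding.injective e ▸ hz)⟩
  haveI := hi
  have hpiece : SmoothPiece (Curv2.bcSnd k X k₁) ((Curv2.bcFst k X k₁).base ⁻¹' ((T : Set X) \ D)) :=
    hTD ▸ smoothPiece_of_immersion (X ↘ (Spec (CommRingCat.of k))) _ (U.ι ≫ A.subschemeι) (U.ι ≫ fZ)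
      (Category.assoc _ _ _) i his hsm
  have h1 := smoothPiece_baseChange (BaseChange.isPullback_bcMap k X k₁ E) hpiece
  have h2 := strat_baseChange (BaseChange.isPullback_bcMap k X E₂ E) hE₂
  rw [← Set.preimage_comp, ← coe_comp, BaseChange.bcMap_fst] at h1
  have e2 : (D.preimage (Curv2.bcFst k X E₂).continuous).preimage (BaseChange.bcMap k X E₂ E).continuous =
      D.preimage (Curv2.bcFst k X E).continuous := Closeds.ext <| by
    show BaseChange.bcMap k X E₂ E ⁻¹' (Curv2.bcFst k X E₂ ⁻¹' (D : Set X)) = Curv2.bcFst k X E ⁻¹' (D : Set X)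
    rw [← Set.preimage_comp, ← coe_comp, BaseChange.bcMap_fst]
  exact .step (fun x hx => hDT hx) h1 (e2 ▸ h2)

end GrothLib.PIStrat5
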